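import Groth.Agent.CDivNormal.Basic

/-!
# Primes of a stalk as generizations
-/

set_option autoImplicit false
set_option backward.isDefEq.respectTransparency false

universe u

open CategoryTheory AlgebraicGeometry TopologicalSpace

namespace Groth.Agent.CDivNormal

variable {X : Scheme.{u}}

/-- The prime of the stalk at `y` given by a generization. -/
noncomputable def genPrime {x y : X} (h : x ⤳ y) : Ideal (X.presheaf.stalk y) :=
  (IsLocalRing.maximalIdeal (X.presheaf.stalk x)).comap (X.presheaf.stalkSpecializes h).hom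

instance {x y : X} (h : x ⤳ y) : (genPrime h).IsPrime := Ideal.comap_isPrime _ _

theorem mem_genPrime {x y : X} (h : x ⤳ y) (a : X.presheaf.stalk y) :
    a ∈ genPrime h ↔ ¬ IsUnit ((X.presheaf.stalkSpecializes h).hom a) := Iff.rfl

theorem germ_mem_genPrime {x y : X} (h : x ⤳ y) {U : X.Opens} (hU : IsAffineOpen U) (hy : y ∈ U)
    (a : Γ(X, U)) :
    (X.presheaf.germ U y hy).hom a ∈ genPrime h ↔
      a ∈ (hU.primeIdealOf ⟨x, h.mem_open U.2 hy⟩).asIdeal := by
  rw [mem_genPrime, show (X.presheaf.stalkSpecializes h).hom ((X.presheaf.germ U y hy).hom a) =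
    (X.presheaf.germ U x (h.mem_open U.2 hy)).hom a from X.presheaf.germ_stalkSpecializes_apply hy h a,
    ← X.mem_basicOpen a x (h.mem_open U.2 hy), WeakAssLib.mem_primeIdealOf hU (h.mem_open U.2 hy) a, not_not]

theorem specializes_of_le {x x' y : X} (h : x ⤳ y) (h' : x' ⤳ y) (hle : genPrime h ≤ genPrime h') : x ⤳ x' := by
  obtain ⟨U, hU, hyU, -⟩ := exists_isAffineOpen_mem_and_subset (x := y) (U := (⊤ : X.Opens)) trivial
  have e : ∀ (z : X) (hz : z ∈ U), hU.fromSpec (hU.primeIdealOf ⟨z, hz⟩) = z := fun z hz =>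
    hU.fromSpec_primeIdealOf _
  rw [← e x (h.mem_open U.2 hyU), ← e x' (h'.mem_open U.2 hyU)]
  refine Specializes.map ((PrimeSpectrum.le_iff_specializes _ _).1 fun a ha => ?_) hU.fromSpec.continuous
  exact (germ_mem_genPrime h' hU hyU a).1 (hle ((germ_mem_genPrime h hU hyU a).2 ha))

theorem genPrime_mono {x w y : X} (h : x ⤳ w) (h' : w ⤳ y) : genPrime (h.trans h') ≤ genPrime h' := by
  intro a ha hu
  refine ha ?_
  have := hu.map (X.presheaf.stalkSpecializes h).hom
  rwa [← CommRingCat.comp_apply, TopCat.Presheaf.stalkSpecializes_comp] at this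

/-- Every prime of a stalk comes from a generization. -/
theorem exists_genPrime_eq (y : X) (P : Ideal (X.presheaf.stalk y)) [hP : P.IsPrime] :
    ∃ (x : X) (h : x ⤳ y), genPrime h = P := by
  classical
  obtain ⟨U, hU, hyU, -⟩ := exists_isAffineOpen_mem_and_subset (x := y) (U := (⊤ : X.Opens)) trivial
  letI := (X.presheaf.germ U y hyU).hom.toAlgebra
  haveI := hU.isLocalization_stalk ⟨y, hyU⟩
  let p := (hU.primeIdealOf ⟨y, hyU⟩).asIdeal
  let q : PrimeSpectrum Γ(X, U) := ⟨P.comap (X.presheaf.germ U y hyU).hom, Ideal.comap_isPrime _ _⟩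
  have hqp : q.asIdeal ≤ p := fun b hb => by
    by_contra hbp
    exact hP.ne_top (Ideal.eq_top_of_isUnit_mem _ hb
      (IsLocalization.map_units (X.presheaf.stalk y) (⟨b, hbp⟩ : p.primeCompl)))
  let x := hU.fromSpec q
  have hxy : x ⤳ y := by
    have e : hU.fromSpec (hU.primeIdealOf ⟨y, hyU⟩) = y := hU.fromSpec_primeIdealOf _
    rw [← e]
    exact Specializes.map ((PrimeSpectrum.le_iff_specializes _ _).1 hqp) hU.fromSpec.continuous
  have hxU : x ∈ U := hU.range_fromSpec.le ⟨q, rfl⟩
  have hpx : hU.primeIdealOf ⟨x, hxU⟩ = q :=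
    hU.fromSpec.isOpenEmbedding.injective (hU.fromSpec_primeIdealOf ⟨x, hxU⟩)
  refine ⟨x, hxy, ?_⟩
  rw [← IsLocalization.map_under p.primeCompl (X.presheaf.stalk y) P,
    ← IsLocalization.map_under p.primeCompl (X.presheaf.stalk y) (genPrime hxy)]
  congr 1
  ext a
  exact (germ_mem_genPrime hxy hU hyU a).trans (by rw [hpx]; rfl)

variable [IsIntegral X]

theorem algebraMap_stalkSpecializes {x y : X} (h : x ⤳ y) (a : X.presheaf.stalk y) :
    algebraMap (X.presheaf.stalk x) X.functionField ((X.presheaf.stalkSpecializes h).hom a) =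
      algebraMap (X.presheaf.stalk y) X.functionField a := by
  show (X.presheaf.stalkSpecializes _).hom ((X.presheaf.stalkSpecializes h).hom a) =
    (X.presheaf.stalkSpecializes _).hom a
  rw [← CommRingCat.comp_apply, TopCat.Presheaf.stalkSpecializes_comp]

/-- A nonzero element of a stalk as a rational function. -/
noncomputable def fn {y : X} (a : X.presheaf.stalk y) (ha : a ≠ 0) : CDiv.KUnits X :=
  Units.mk0 (algebraMap (X.presheaf.stalk y) X.functionField a)
    fun e => ha (IsFractionRing.injective (X.presheaf.stalk y) X.functionField (e.trans (map_zero _).symm))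

variable [IsLocallyNoetherian X] (hn : Pi1.IsNormalScheme X)
include hn

theorem ord_fn_nonneg {x y : X} (h : x ⤳ y) (hx : Order.coheight x = 1) {a : X.presheaf.stalk y} (ha : a ≠ 0) :
    0 ≤ Scheme.ord ((fn a ha : CDiv.KUnits X) : X.functionField) x :=
  (ord_nonneg_iff hn _ x hx).2 ⟨_, algebraMap_stalkSpecializes h a⟩

theorem ord_fn_eq_zero_iff {x y : X} (h : x ⤳ y) (hx : Order.coheight x = 1) {a : X.presheaf.stalk y}
    (ha : a ≠ 0) : Scheme.ord ((fn a ha : CDiv.KUnits X) : X.functionField) x = 0 ↔ a ∉ genPrime h := by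
  rw [ord_eq_zero_iff hn _ x hx, mem_genPrime, not_not]
  constructor
  · rintro ⟨w, hw⟩
    have hw' := congrArg Units.val hw
    have : (w : X.presheaf.stalk x) = (X.presheaf.stalkSpecializes h).hom a :=
      IsFractionRing.injective (X.presheaf.stalk x) X.functionField
        (hw'.trans (algebraMap_stalkSpecializes h a).symm)
    exact this ▸ w.isUnit
  · intro hu
    exact ⟨hu.unit, Units.ext (algebraMap_stalkSpecializes h a)⟩

/-- A nonzero prime lies over a codimension one generization. -/
theorem exists_codim_one_le {y : X} (P : Ideal (X.presheaf.stalk y)) [P.IsPrime] (hP : P ≠ ⊥) :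
    ∃ (x : X) (h : x ⤳ y), Order.coheight x = 1 ∧ genPrime h ≤ P := by
  obtain ⟨w, hw, rfl⟩ := exists_genPrime_eq y P
  by_contra hc
  push Not at hc
  obtain ⟨a, ha, ha0⟩ := Submodule.exists_mem_ne_zero_of_ne_bot hP
  obtain ⟨r, hr⟩ := mem_range_of_codim_one hn (((fn a ha0)⁻¹ : CDiv.KUnits X) : X.functionField) w
    fun x hxw hx => absurd (genPrime_mono hxw hw) (hc x (hxw.trans hw) hx)
  refine ha (IsUnit.of_mul_eq_one r ?_)
  apply IsFractionRing.injective (X.presheaf.stalk w) X.functionField
  rw [map_mul, hr, algebraMap_stalkSpecializes, map_one]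
  exact Units.mul_inv (fn a ha0)

/-- In a factorial stalk a codimension one generization is cut out by a single prime element. -/
theorem exists_fn_ord_delta {x₀ y : X} (h₀ : x₀ ⤳ y) (hx₀ : Order.coheight x₀ = 1)
    [UniqueFactorizationMonoid (X.presheaf.stalk y)] :
    ∃ f : CDiv.KUnits X, Scheme.ord (f : X.functionField) x₀ = 1 ∧
      ∀ x : X, x ⤳ y → x ≠ x₀ → Order.coheight x = 1 → Scheme.ord (f : X.functionField) x = 0 := by
  haveI := isDVR hn x₀ hx₀
  haveI : Ring.KrullDimLE 1 (X.presheaf.stalk x₀) := krullDimLE_of_coheight_le hx₀.le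
  obtain ⟨π, hπ⟩ := IsDiscreteValuationRing.exists_irreducible (X.presheaf.stalk x₀)
  let π' := fn π hπ.ne_zero
  have hordπ : Scheme.ord (π' : X.functionField) x₀ = 1 :=
    (Scheme.ord_eq_iff hx₀ π'.ne_zero).2 (Ring.ordFrac_irreducible hπ)
  obtain ⟨c, d, hd, hcd⟩ := IsFractionRing.div_surjective (X.presheaf.stalk y) (π' : X.functionField)
  -- a prime element of the prime of `x₀`
  have hne : genPrime h₀ ≠ ⊥ := by
    intro hbot
    have hu : ∀ e : X.presheaf.stalk y, e ≠ 0 → ∀ he : e ≠ 0,
        Scheme.ord ((fn e he : CDiv.KUnits X) : X.functionField) x₀ = 0 := fun e _ he =>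
      (ord_fn_eq_zero_iff hn h₀ hx₀ he).2 (by rw [hbot, Submodule.mem_bot]; exact he)
    have hc0 : c ≠ 0 := fun e => π'.ne_zero (by rw [← hcd, e, map_zero, zero_div])
    have hd0 : d ≠ 0 := nonZeroDivisors.ne_zero hd
    have := Scheme.ord_mul (x := x₀) π'.ne_zero (fn d hd0).ne_zero
    rw [hordπ, hu d hd0 hd0, show (π' : X.functionField) * (fn d hd0 : CDiv.KUnits X) =
      ((fn c hc0 : CDiv.KUnits X) : X.functionField) by
        show _ * algebraMap _ _ d = algebraMap _ _ c
        rw [← hcd, div_mul_cancel₀]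
        exact (fn d hd0).ne_zero, hu c hc0 hc0] at this
    omega
  obtain ⟨p, hp, hpp⟩ := (inferInstance : (genPrime h₀).IsPrime).exists_mem_prime_of_ne_bot hne
  have hpne := hpp.ne_zero
  -- the prime `(p)` is the prime of every codimension one point containing it
  haveI : (Ideal.span {p}).IsPrime := (Ideal.span_singleton_prime hpne).2 hpp
  obtain ⟨z, hz, hzp⟩ := exists_genPrime_eq y (Ideal.span {p})
  have hzx : ∀ (x : X) (h : x ⤳ y), Order.coheight x = 1 → p ∈ genPrime h → x = z := by
    intro x h hx hpx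
    have hzx' : z ⤳ x := specializes_of_le hz h (by
      rw [hzp]; exact (Ideal.span_singleton_le_iff_mem _).2 hpx)
    rcases DivOrd.eq_or_eq_genericPoint hx hzx' with e | e
    · exact e.symm
    · exfalso
      subst e
      have hmem : p ∈ genPrime hz := by rw [hzp]; exact Ideal.mem_span_singleton_self p
      exact hmem (Ne.isUnit (fun e0 => (fn p hpne).ne_zero e0 :
        ((X.presheaf.stalkSpecializes hz).hom p : X.functionField) ≠ 0))
  have hz₀ : x₀ = z := hzx x₀ h₀ hx₀ hp
  subst hz₀
  refine ⟨fn p hpne, ?_, fun x hxy hxne hx =>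
    (ord_fn_eq_zero_iff hn hxy hx hpne).2 fun hm => hxne (hzx x hxy hx hm)⟩
  -- `p` has order one
  refine le_antisymm ?_ ?_
  · -- every element of the maximal ideal is a multiple of `p`
    obtain ⟨e, c', he, hec⟩ : ∃ e c' : X.presheaf.stalk y, e ∉ genPrime h₀ ∧
        algebraMap _ X.functionField e * (π' : X.functionField) = algebraMap _ X.functionField c' := by
      obtain ⟨U, hU, hyU, -⟩ := exists_isAffineOpen_mem_and_subset (x := y) (U := (⊤ : X.Opens)) trivial
      haveI : Nonempty U := ⟨⟨y, hyU⟩⟩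
      have hxU := h₀.mem_open U.2 hyU
      letI := (X.presheaf.germ U x₀ hxU).hom.toAlgebra
      haveI := hU.isLocalization_stalk ⟨x₀, hxU⟩
      obtain ⟨⟨c', e⟩, hce⟩ := IsLocalization.surj (hU.primeIdealOf ⟨x₀, hxU⟩).asIdeal.primeCompl π
      refine ⟨X.presheaf.germ U y hyU e, X.presheaf.germ U y hyU c',
        fun h => e.2 ((germ_mem_genPrime h₀ hU hyU _).1 h), ?_⟩
      rw [X.algebraMap_germ_eq_germToFunctionField, X.algebraMap_germ_eq_germToFunctionField,
        ← X.algebraMap_germ_eq_germToFunctionField hxU, ← X.algebraMap_germ_eq_germToFunctionField hxU]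
      change algebraMap (X.presheaf.stalk x₀) _ _ * algebraMap (X.presheaf.stalk x₀) X.functionField π = _
      rw [← map_mul, mul_comm]
      exact congrArg _ hce
    have hc0 : c' ≠ 0 := fun e0 => by
      rw [e0, map_zero, mul_eq_zero] at hec
      rcases hec with h | h
      · exact he (by
          rw [IsFractionRing.injective (X.presheaf.stalk y) X.functionField (h.trans (map_zero _).symm)]
          exact Ideal.zero_mem _)
      · exact π'.ne_zero h
    have he0 : e ≠ 0 := fun e0 => he (e0 ▸ Ideal.zero_mem _)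
    have hec' : Scheme.ord ((fn c' hc0 : CDiv.KUnits X) : X.functionField) x₀ = 1 := by
      show Scheme.ord (algebraMap _ X.functionField c') x₀ = 1
      rw [← hec]
      show Scheme.ord (((fn e he0 : CDiv.KUnits X) : X.functionField) * (π' : X.functionField)) x₀ = 1
      rw [Scheme.ord_mul (fn e he0).ne_zero π'.ne_zero, hordπ,
        (ord_fn_eq_zero_iff hn h₀ hx₀ he0).2 he, zero_add]
    have hmem : c' ∈ Ideal.span {p} := by
      rw [← hzp]
      by_contra hcc
      rw [(ord_fn_eq_zero_iff hn h₀ hx₀ hc0).2 hcc] at hec'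
      exact zero_ne_one hec'
    obtain ⟨q, rfl⟩ := Ideal.mem_span_singleton.1 hmem
    have hq0 : q ≠ 0 := right_ne_zero_of_mul hc0
    have := ord_fn_nonneg hn h₀ hx₀ hq0
    rw [show ((fn (p * q) hc0 : CDiv.KUnits X) : X.functionField) =
      ((fn p hpne : CDiv.KUnits X) : X.functionField) * ((fn q hq0 : CDiv.KUnits X) : X.functionField)
      from map_mul _ _ _, Scheme.ord_mul (fn p hpne).ne_zero (fn q hq0).ne_zero] at hec'
    omega
  · have h1 := ord_fn_nonneg hn h₀ hx₀ hpne
    have h2 : Scheme.ord ((fn p hpne : CDiv.KUnits X) : X.functionField) x₀ ≠ 0 := fun e =>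
      (ord_fn_eq_zero_iff hn h₀ hx₀ hpne).1 e hp
    omega

end Groth.Agent.CDivNormal
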