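import Groth.Prelude.Def_CDiv
import Groth.Prelude.Def_Pi1
import Groth.Agent.S2875
import Groth.Agent.RefStalk.Codim
import Groth.Agent.DivOrd.Finite
import Mathlib

/-!
# Rational functions on normal schemes are governed by codimension one points
-/

set_option autoImplicit false
set_option backward.isDefEq.respectTransparency false

universe u

open CategoryTheory AlgebraicGeometry TopologicalSpace

namespace Groth.Agent.CDivNormal

variable {X : Scheme.{u}} [IsIntegral X]

/-- A nonclosed prime of a local ring is a proper generization. -/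
theorem exists_generization (y : X) (P : Ideal (X.presheaf.stalk y)) [hP : P.IsPrime]
    (hPm : P ≠ IsLocalRing.maximalIdeal (X.presheaf.stalk y)) :
    ∃ x : X, x ⤳ y ∧ x ≠ y ∧ ∀ f : X.functionField, (∃ r, algebraMap (X.presheaf.stalk x) X.functionField r = f) →
      ∃ d c : X.presheaf.stalk y, d ∉ P ∧
        algebraMap (X.presheaf.stalk y) X.functionField d * f = algebraMap _ X.functionField c := by
  classical
  obtain ⟨U, hU, hyU, -⟩ := exists_isAffineOpen_mem_and_subset (x := y) (U := (⊤ : X.Opens)) trivial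
  haveI : Nonempty U := ⟨⟨y, hyU⟩⟩
  letI := (X.presheaf.germ U y hyU).hom.toAlgebra
  haveI := hU.isLocalization_stalk ⟨y, hyU⟩
  let p := (hU.primeIdealOf ⟨y, hyU⟩).asIdeal
  let q : PrimeSpectrum Γ(X, U) := ⟨P.comap (X.presheaf.germ U y hyU).hom, Ideal.comap_isPrime _ _⟩
  have hqp : q.asIdeal ≤ p := fun b hb => by
    by_contra hbp
    exact hP.ne_top (Ideal.eq_top_of_isUnit_mem _ hb
      (IsLocalization.map_units (X.presheaf.stalk y) (⟨b, hbp⟩ : p.primeCompl)))
  let x := hU.fromSpec q
  have hxy : x ⤳ y := by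
    have e : hU.fromSpec (hU.primeIdealOf ⟨y, hyU⟩) = y := hU.fromSpec_primeIdealOf _
    rw [← e]
    exact Specializes.map ((PrimeSpectrum.le_iff_specializes _ _).1 hqp) hU.fromSpec.continuous
  have hxU : x ∈ U := hU.range_fromSpec.le ⟨q, rfl⟩
  have hpx : hU.primeIdealOf ⟨x, hxU⟩ = q :=
    hU.fromSpec.isOpenEmbedding.injective (hU.fromSpec_primeIdealOf ⟨x, hxU⟩)
  have hne : x ≠ y := fun e => by
    have hqe : q = hU.primeIdealOf ⟨y, hyU⟩ := hU.fromSpec.isOpenEmbedding.injective
      (e.trans (hU.fromSpec_primeIdealOf ⟨y, hyU⟩).symm)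
    apply hPm
    rw [← IsLocalization.map_under p.primeCompl (X.presheaf.stalk y) P]
    rw [show P.under Γ(X, U) = p from congrArg PrimeSpectrum.asIdeal hqe]
    exact IsLocalization.AtPrime.map_eq_maximalIdeal p _
  refine ⟨x, hxy, hne, ?_⟩
  rintro f ⟨w, rfl⟩
  letI := (X.presheaf.germ U x hxU).hom.toAlgebra
  haveI := hU.isLocalization_stalk ⟨x, hxU⟩
  obtain ⟨⟨c, d⟩, hcd⟩ := IsLocalization.surj (hU.primeIdealOf ⟨x, hxU⟩).asIdeal.primeCompl w
  have hd : (d : Γ(X, U)) ∉ q.asIdeal := fun h => d.2 ((congrArg PrimeSpectrum.asIdeal hpx).ge h)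
  refine ⟨X.presheaf.germ U y hyU d, X.presheaf.germ U y hyU c, hd, ?_⟩
  rw [X.algebraMap_germ_eq_germToFunctionField, X.algebraMap_germ_eq_germToFunctionField,
    ← X.algebraMap_germ_eq_germToFunctionField hxU, ← X.algebraMap_germ_eq_germToFunctionField hxU]
  change algebraMap (X.presheaf.stalk x) _ _ * algebraMap (X.presheaf.stalk x) X.functionField w = _
  rw [← map_mul, mul_comm]
  exact congrArg _ hcd

variable [IsLocallyNoetherian X] (hn : Pi1.IsNormalScheme X)

include hn in
/-- A rational function regular at all codimension one generizations of `y` is regular at `y`. -/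
theorem mem_range_of_codim_one (f : X.functionField) (y : X)
    (h : ∀ x : X, x ⤳ y → Order.coheight x = 1 →
      ∃ r, algebraMap (X.presheaf.stalk x) X.functionField r = f) :
    ∃ r, algebraMap (X.presheaf.stalk y) X.functionField r = f := by
  have hfin : ∃ n : ℕ, Order.coheight y ≤ (n : ℕ∞) := by
    have h1 : ringKrullDim (X.presheaf.stalk y) < ⊤ := ringKrullDim_lt_top
    rw [ringKrullDim_stalk_eq_coheight] at h1
    obtain ⟨n, hn'⟩ := ENat.ne_top_iff_exists.1 (fun e => h1.ne (by rw [e]; rfl) : Order.coheight y ≠ ⊤)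
    exact ⟨n, hn'.ge⟩
  obtain ⟨n, hn'⟩ := hfin
  induction n using Nat.strong_induction_on generalizing y with
  | _ n ih =>
    have hgen : ∀ P : Ideal (X.presheaf.stalk y), P.IsPrime →
        P ≠ IsLocalRing.maximalIdeal (X.presheaf.stalk y) → ∃ d c : X.presheaf.stalk y, d ∉ P ∧
          algebraMap _ X.functionField d * f = algebraMap _ X.functionField c := by
      intro P hP hPm
      obtain ⟨x, hxy, hne, hx⟩ := exists_generization y P hPm
      refine hx f ?_
      have hlt : y < x := lt_iff_le_not_ge.2 ⟨hxy, fun h' => hne (hxy.antisymm h').eq⟩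
      have hle := (Order.coheight_add_one_le hlt).trans hn'
      obtain ⟨m, hm⟩ := ENat.ne_top_iff_exists.1 (fun e => by rw [e] at hle; simp at hle :
        Order.coheight x ≠ ⊤)
      rw [← hm, ← Nat.cast_one, ← Nat.cast_add, Nat.cast_le] at hle
      exact ih m (by omega) x (fun z hz hz1 => h z (hz.trans hxy) hz1) hm.ge
    rcases le_or_gt (ringKrullDim (X.presheaf.stalk y)) 1 with h1 | h1
    · rw [ringKrullDim_stalk_eq_coheight] at h1
      have h1' : Order.coheight y ≤ 1 := WithBot.coe_le_coe.1 h1
      rcases lt_or_eq_of_le h1' with h0 | h0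
      · have hy : y = genericPoint X := by
          have h00 : Order.coheight y = 0 := ENat.lt_one_iff_eq_zero.1 h0
          have hg : genericPoint X ⤳ y := (genericPoint_spec X).specializes trivial
          exact (Specializes.antisymm (Order.coheight_eq_zero.1 h00 (show y ≤ genericPoint X from hg) :
            y ⤳ genericPoint X) hg).eq
        subst hy
        refine ⟨f, ?_⟩
        show (X.presheaf.stalkSpecializes _).hom f = f
        rw [TopCat.Presheaf.stalkSpecializes_refl]
        rfl
      · exact h y specializes_rfl h0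
    · exact S2875.exists_eq_algebraMap (RefStalk.two_le_depth hn y (RefStalk.two_le_iff.2 h1.not_ge)) f hgen

include hn in
theorem isDVR (x : X) (hx : Order.coheight x = 1) : IsDiscreteValuationRing (X.presheaf.stalk x) := by
  haveI := (hn x).1
  haveI := (hn x).2
  have hd : ringKrullDim (X.presheaf.stalk x) = 1 := by rw [ringKrullDim_stalk_eq_coheight, hx]; rfl
  have hnf : ¬ IsField (X.presheaf.stalk x) := fun h => by
    rw [ringKrullDim_eq_zero_of_isField h] at hd
    exact zero_ne_one hd
  haveI : Ring.DimensionLEOne (X.presheaf.stalk x) := ⟨fun {p} hp hprime =>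
    (Ring.krullDimLE_one_iff_of_isPrime_bot.1 (Ring.krullDimLE_iff.2 hd.le)) p hp hprime⟩
  haveI : IsDedekindRing (X.presheaf.stalk x) := { }
  haveI : IsDedekindDomain (X.presheaf.stalk x) := { }
  exact ((IsDiscreteValuationRing.TFAE (X.presheaf.stalk x) hnf).out 0 2).2 (inferInstance : IsDedekindDomain (X.presheaf.stalk x))

include hn in
theorem ord_nonneg_iff (f : CDiv.KUnits X) (x : X) (hx : Order.coheight x = 1) :
    0 ≤ Scheme.ord (f : X.functionField) x ↔
      ∃ r, algebraMap (X.presheaf.stalk x) X.functionField r = (f : X.functionField) := by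
  haveI := isDVR hn x hx
  haveI : Ring.KrullDimLE 1 (X.presheaf.stalk x) := krullDimLE_of_coheight_le hx.le
  rw [Scheme.le_ord_iff hx f.ne_zero]
  change (1 : WithZero (Multiplicative ℤ)) ≤ Ring.ordFrac (X.presheaf.stalk x) (f : X.functionField) ↔ _
  constructor
  · intro h
    rw [Ring.ordFrac_eq_valuation_inv, one_le_inv₀] at h
    · exact IsDiscreteValuationRing.exists_lift_of_le_one h
    · rw [WithZero.pos_iff_ne_zero, ne_eq, map_eq_zero]; exact f.ne_zero
  · rintro ⟨r, hr⟩
    rw [← hr]
    exact Ring.ordFrac_ge_one_of_ne_zero (fun e => f.ne_zero (by rw [← hr, e, map_zero]))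

omit [IsLocallyNoetherian X] in
theorem mem_stalkUnits_iff (f : CDiv.KUnits X) (x : X) :
    f ∈ CDiv.stalkUnits X x ↔ (∃ r, algebraMap (X.presheaf.stalk x) X.functionField r = (f : X.functionField)) ∧
      ∃ r, algebraMap (X.presheaf.stalk x) X.functionField r = ((f⁻¹ : CDiv.KUnits X) : X.functionField) := by
  constructor
  · rintro ⟨w, rfl⟩
    exact ⟨⟨w, rfl⟩, ⟨(w⁻¹ : _), by rw [← map_inv]; rfl⟩⟩
  · rintro ⟨⟨r, hr⟩, ⟨r', hr'⟩⟩
    have hrr : r * r' = 1 := IsFractionRing.injective (X.presheaf.stalk x) X.functionField (by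
      rw [map_mul, hr, hr', map_one, ← Units.val_mul, mul_inv_cancel, Units.val_one])
    exact ⟨⟨r, r', hrr, by rw [mul_comm, hrr]⟩, Units.ext hr⟩

omit [IsLocallyNoetherian X] in
theorem germOf_eq_iff (f g : CDiv.KUnits X) (x : X) :
    CDiv.germOf X x f = CDiv.germOf X x g ↔ f⁻¹ * g ∈ CDiv.stalkUnits X x := QuotientGroup.eq

theorem ord_inv (f : CDiv.KUnits X) (x : X) :
    Scheme.ord ((f⁻¹ : CDiv.KUnits X) : X.functionField) x = - Scheme.ord (f : X.functionField) x := by
  have h := Scheme.ord_mul (x := x) f.ne_zero (f⁻¹).ne_zero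
  have h1 := Scheme.ord_mul (x := x) (one_ne_zero (α := X.functionField)) one_ne_zero
  rw [← Units.val_mul, mul_inv_cancel, Units.val_one] at h
  rw [one_mul] at h1
  omega

include hn in
theorem ord_eq_zero_iff (f : CDiv.KUnits X) (x : X) (hx : Order.coheight x = 1) :
    Scheme.ord (f : X.functionField) x = 0 ↔ f ∈ CDiv.stalkUnits X x := by
  rw [mem_stalkUnits_iff, ← ord_nonneg_iff hn f x hx, ← ord_nonneg_iff hn f⁻¹ x hx, ord_inv]
  omega

include hn in
/-- Divisor germs at a codimension one point are determined by the order. -/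
theorem germOf_eq_iff_ord (f g : CDiv.KUnits X) (x : X) (hx : Order.coheight x = 1) :
    CDiv.germOf X x f = CDiv.germOf X x g ↔ Scheme.ord (f : X.functionField) x = Scheme.ord (g : X.functionField) x := by
  rw [germOf_eq_iff, ← ord_eq_zero_iff hn _ x hx, Units.val_mul,
    Scheme.ord_mul (f⁻¹).ne_zero g.ne_zero, ord_inv]
  omega

include hn in
/-- The order condition characterises rational functions that are units at `y`. -/
theorem mem_stalkUnits_of_codim_one (f : CDiv.KUnits X) (y : X)
    (h : ∀ x : X, x ⤳ y → Order.coheight x = 1 → Scheme.ord (f : X.functionField) x = 0) :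
    f ∈ CDiv.stalkUnits X y :=
  (mem_stalkUnits_iff f y).2 ⟨mem_range_of_codim_one hn _ y fun x hxy hx =>
      (ord_nonneg_iff hn f x hx).1 (h x hxy hx).ge,
    mem_range_of_codim_one hn _ y fun x hxy hx =>
      (ord_nonneg_iff hn f⁻¹ x hx).1 (by rw [ord_inv, h x hxy hx, neg_zero])⟩

end Groth.Agent.CDivNormal
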